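import Cfsg.Agent.Lib.T2R.Gen
import Cfsg.Agent.Lib.T2R.Concl
import Cfsg.Agent.Lib.Suz.Torus
import Cfsg.Agent.S2337

/-!
# Doubly transitive actions of the Suzuki groups
-/

set_option autoImplicit false

namespace Cfsg.Agent.T2R

open MulAction Cfsg.Agent.T2 Subgroup Cfsg.Agent.Suz

theorem sz_arith {t a b c k : ℕ} (ht : 2 ≤ t) (ha : a = 2 * t ^ 2 + 2 * t + 1) (hb : b + 2 * t = 2 * t ^ 2 + 1)
    (hc : c + 1 = 2 * t ^ 2) (h1 : 2 * t ∣ k + 1) (h2 : 2 * t ^ 2 * c < k + 1 → 4 * t ^ 2 ∣ k + 1)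
    (h3 : ∀ w, Odd w → w ∣ k + 1 → w ≤ c) (hk : t * c ≤ k)
    (h : (∃ j y, k = a * b * j ∧ c = j * y) ∨ (∃ j y, k = a * j ∧ c = j * y) ∨ (∃ j y, k = b * j ∧ c = j * y) ∨ k ∣ c) :
    False := by
  have c0 : 0 < c := by nlinarith
  obtain ⟨u, hu⟩ := h1
  rcases h with ⟨j, y, e1, e2⟩ | ⟨j, y, e1, e2⟩ | ⟨j, y, e1, e2⟩ | h
  · have hab : a * b = 4 * t ^ 4 + 1 := by
      zify at hb ha ⊢
      rw [ha, show (b : ℤ) = 2 * t ^ 2 + 1 - 2 * t by linarith]; ring
    have j0 : 0 < j := Nat.pos_of_ne_zero fun e => by simp [e] at e2; omega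
    have j1 : j ≤ c := Nat.le_of_dvd c0 ⟨y, e2⟩
    rw [hab] at e1
    have h4 := h2 (by
      have p1 : 2 * t ^ 2 * c ≤ 2 * t ^ 2 * (2 * t ^ 2) := Nat.mul_le_mul_left _ (by omega)
      have p2 : (4 * t ^ 4 + 1) * 1 ≤ (4 * t ^ 4 + 1) * j := Nat.mul_le_mul_left _ j0
      nlinarith)
    rw [e1, show (4 * t ^ 4 + 1) * j + 1 = 4 * t ^ 2 * (t ^ 2 * j) + (j + 1) by ring,
      Nat.dvd_add_right (dvd_mul_right _ _)] at h4
    have := Nat.le_of_dvd (by omega) h4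
    nlinarith
  · have y0 : 0 < y := Nat.pos_of_ne_zero fun e => by simp [e] at e2; omega
    have h4 : t * y ≤ a := le_of_mul_le_mul_right (by nlinarith) c0
    have h5 : y ≤ 2 * t + 2 := by nlinarith
    have e3 : (k : ℤ) * y = a * (2 * t ^ 2 - 1) := by
      zify at e1 e2 hc; rw [e1, mul_assoc, ← e2, ← hc]; ring
    obtain ⟨v, hv⟩ : ∃ v : ℤ, (y : ℤ) - 1 = 2 * t * v := by
      zify at hu ha
      exact ⟨u * y - (2 * t ^ 3 + 2 * t ^ 2 - 1), by rw [ha] at e3; linear_combination y * hu - e3⟩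
    have v0 : 0 ≤ v := by nlinarith
    have v1 : v < 2 := by nlinarith
    interval_cases v
    · obtain rfl : y = 1 := by omega
      have := h3 (2 * t ^ 3 + c) (by rw [Nat.odd_iff]; omega) ⟨2 * t, by
        zify at hc ha e3 ⊢
        rw [ha] at e3
        linear_combination e3 - 2 * t * hc⟩
      have : 0 < t ^ 3 := by positivity
      omega
    · zify at e2 hc
      have : (2 * t + 1 : ℤ) * (2 * t - 1 - 2 * j) = 1 := by linear_combination 2 * e2 - 2 * hc + 2 * j * hv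
      have := Int.eq_one_or_neg_one_of_mul_eq_one this
      omega
  · have y0 : 0 < y := Nat.pos_of_ne_zero fun e => by simp [e] at e2; omega
    have h4 : t * y ≤ b := le_of_mul_le_mul_right (by nlinarith) c0
    have h5 : y ≤ 2 * t := by nlinarith
    have e3 : (k : ℤ) * y = (2 * t ^ 2 + 1 - 2 * t) * (2 * t ^ 2 - 1) := by
      zify at e1 e2 hc hb; rw [e1, mul_assoc, ← e2, ← hb, ← hc]; ring
    obtain ⟨v, hv⟩ : ∃ v : ℤ, (y : ℤ) - 1 = 2 * t * v := by
      zify at hu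
      exact ⟨u * y - (2 * t ^ 3 - 2 * t ^ 2 + 1), by linear_combination y * hu - e3⟩
    have v0 : 0 ≤ v := by nlinarith
    have v1 : v < 1 := by nlinarith
    obtain rfl : v = 0 := by omega
    obtain rfl : y = 1 := by omega
    obtain ⟨s, rfl⟩ : ∃ s, t = s + 1 := ⟨t - 1, by omega⟩
    have := h3 (2 * ((s + 1) ^ 2 * s) + 1) (odd_two_mul_add_one _) ⟨2 * (s + 1), by
      zify at e3 ⊢
      linear_combination e3⟩
    nlinarith
  · have := Nat.le_of_dvd c0 h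
    nlinarith

variable {F : Type*} [Field F] {m : ℕ} [SuzF F m] {Ω : Type*}

theorem two_Pt : Two (G F m) (Pt F m) := fun a b c d h1 h2 => by
  obtain ⟨g, g1, g2⟩ := exists_smul_pair h1
  obtain ⟨k, k1, k2⟩ := exists_smul_pair h2
  exact ⟨k * g⁻¹, by rw [← g1, mul_smul, inv_smul_smul, k1], by rw [← g2, mul_smul, inv_smul_smul, k2]⟩

theorem sz_core [Fintype F] [MulAction (G F m) Ω] [FaithfulSMul (G F m) Ω] [Finite Ω] (h : Two (G F m) Ω) :
    Nat.card Ω = (2 ^ (2 * m + 1)) ^ 2 + 1 := by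
  have hm : 1 ≤ m := SuzF.one_le F
  have : Nontrivial (G F m) := ⟨_, _, w_ne_one⟩
  have := nontrivial_of_faithful (G := G F m) (Ω := Ω)
  refine (card_eq_or_trans h two_Pt inf).elim (fun e => e.trans card_Pt) fun hB => False.elim ?_
  have h1 := card_dvd_of_trans (B := B F) fun a b => hB a b
  obtain ⟨k, ρ, hk, hρ⟩ := exists_rep h
  have h2 := S2337.main ρ hρ
  have h3 := mul_pred_dvd h
  have hq : 1 < 2 ^ (2 * m + 1) := Nat.one_lt_two_pow (by omega)
  obtain ⟨c, hc⟩ : ∃ c, 2 ^ (2 * m + 1) = c + 1 := ⟨2 ^ (2 * m + 1) - 1, by omega⟩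
  have hc' : 2 ^ (2 * m + 1) - 1 = c := by omega
  rw [card_B, ← pow_mul, hc'] at h1
  rw [card_G, ← tp_mul_tm, hc'] at h3
  simp only [Module.finrank_fin_fun, hc'] at h2
  have hco : (tp m * tm m).Coprime ((2 ^ (2 * m + 1)) ^ 2 * c) := by
    have o : Odd (tp m * tm m) := (odd_tp m).mul (odd_tm m)
    refine Nat.Coprime.mul_right (((Nat.coprime_two_right.2 o).pow_right _).pow_right _) ?_
    rw [tp_mul_tm, hc] at o ⊢
    rw [show (c + 1) ^ 2 + 1 = 2 + (c + 2) * c by ring, Nat.coprime_add_mul_right_left, Nat.coprime_two_left]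
    rw [Nat.odd_iff] at o ⊢
    rw [show (c + 1) ^ 2 + 1 = c * c + 2 * (c + 1) by ring, Nat.add_mul_mod_self_left, ← Nat.odd_iff, Nat.odd_mul] at o
    exact Nat.odd_iff.1 o.1
  have key : ∀ t t', (t = tp m ∨ t = tm m) → t * t' = tp m * tm m → t.Coprime t' → t ∣ k ∨ t.Coprime k :=
    fun t t' ht e hco' => by
    obtain ⟨b, hb⟩ := exists_orderOf_eq (F := F) ht
    obtain ⟨f1, f2⟩ := card_cent_of_orderOf ht hb
    have c1 : Nat.card (zpowers (u 0 b * w : G F m)) = t := by rw [Nat.card_zpowers, hb]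
    have c2 : t.Coprime ((2 ^ (2 * m + 1)) ^ 2 * c) := Nat.Coprime.coprime_mul_right (e ▸ hco)
    have := dvd_or_coprime h (T := zpowers (u 0 b * w : G F m)) (fun x hx x1 => by
      rw [f1.cent_eq (mem_centralizer_singleton_iff.1 (f2 ▸ hx)) x1, f2]) (by
        have i := (zpowers (u 0 b * w : G F m)).card_mul_index
        rw [c1, card_G, ← tp_mul_tm, hc', ← e, mul_left_comm] at i
        rw [c1, Nat.eq_of_mul_eq_mul_left (hb ▸ orderOf_pos _) i]
        exact c2.mul_right hco') (by rw [c1]; exact c2.coprime_dvd_right (by rwa [← pow_mul]))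
    rwa [c1, ← hk, Nat.add_sub_cancel] at this
  rw [← hk] at h1 h3
  have c0 : 0 < c := by omega
  have h4 : 2 ^ (m + 1) ∣ k + 1 := pow_dvd_of_lt Nat.prime_two c0 h1 (by omega)
  have h5 : k.Coprime ((2 ^ (2 * m + 1)) ^ 2) := by
    refine ((Nat.coprime_two_right.2 ?_).pow_right _).pow_right _
    have : 2 ∣ k + 1 := (dvd_pow_self 2 (by omega)).trans h4
    rw [Nat.odd_iff]; omega
  have h6 : k ∣ tp m * tm m * c := h5.dvd_of_dvd_mul_left (by
    rw [mul_comm _ c, ← mul_assoc]; exact (Dvd.intro_left _ rfl).trans h3)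
  have e1 : 2 ^ (2 * m + 1) = 2 * (2 ^ m) ^ 2 := by ring
  have e2 : 2 ^ (m + 1) = 2 * 2 ^ m := by ring
  refine sz_arith (t := 2 ^ m) (a := tp m) (b := tm m) (c := c) (k := k)
    (Nat.le_self_pow (by omega) 2) (by rw [tp, e1, e2]) (by rw [← e1, ← e2, tm_add_r]) (by rw [← e1, hc])
    (e2 ▸ h4) (fun e => ?_) (fun w w1 w2 => Nat.le_of_dvd c0 ?_) h2
    (four_cases h6 (coprime_tp_tm m) (key _ _ (Or.inl rfl) rfl (coprime_tp_tm m))
      (key _ _ (Or.inr rfl) (mul_comm _ _) (coprime_tp_tm m).symm) (odd_tp m).pos (odd_tm m).pos)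
  · rw [show 4 * (2 ^ m) ^ 2 = 2 ^ (2 * m + 1 + 1) by ring]
    exact pow_dvd_of_lt Nat.prime_two c0 h1 (e1 ▸ e)
  · exact ((Nat.coprime_two_right.2 w1).pow_right _).dvd_of_dvd_mul_left (w2.trans h1)

theorem sz {G : Type*} [Group G] [MulAction G Ω] [FaithfulSMul G Ω] [Finite Ω] (hG : Lie.IsoSuzuki G)
    (h : Two G Ω) : Concl G (Nat.card Ω) := by
  obtain ⟨F, _, _, m, hm, hF, ⟨e⟩⟩ := hG
  have := SuzF.of_card hm hF
  obtain ⟨_, _, h'⟩ := transport (e.trans (lieEquiv F).symm) h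
  exact Or.inr (Or.inr (Or.inr (Or.inl ⟨F, _, _, m, hm, hF, ⟨e⟩, by rw [sz_core h', hF]⟩)))

end Cfsg.Agent.T2R
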